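import Mathlib
import Cfsg.Agent.Lib.Helper71.Sym.Defs

/-!
# Symmetric S3-amalgam lemma, package C3 (helper74)

`C ⊓ x C x⁻¹ = 1` and `|C| ≤ 2` for `C = C_Z(H)`.
-/

set_option autoImplicit false

namespace Cfsg.Agent.Lib.Helper74.Sym

open Cfsg.Agent.Lib.Helper71.Sym

universe u

theorem pkgC3 : Cfsg.Agent.Lib.Helper71.Sym.PkgC3.{u} := by
  intro G _ _ H T Q x hA hZF w hLoc
  classical
  -- elements of `C` are centralized by `H`
  have hCc : ∀ a ∈ Cs H T, ∀ h ∈ H, h * a = a * h := by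
    intro a ha h hh
    have h1 : a ∈ Subgroup.centralizer (H : Set G) := ha.2
    rw [Subgroup.mem_centralizer_iff] at h1
    exact h1 h hh
  have hCZ : ∀ a ∈ Cs H T, a ∈ Zs H T := fun a ha => ha.1
  have hCT : ∀ a ∈ Cs H T, a ∈ T := fun a ha => hA.hQT (hZF.le_Q ha.1)
  have hxxH : x * x ∈ H := hA.hTH hA.hx2
  -- `x⁻¹ t x ∈ T`
  have hxinvT : ∀ t ∈ T, x⁻¹ * t * x ∈ T := by
    intro t ht
    have h1 : x⁻¹ * t * x = (x * x)⁻¹ * (x * t * x⁻¹) * (x * x) := by group
    rw [h1]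
    exact T.mul_mem (T.mul_mem (T.inv_mem hA.hx2) (hA.hxT t ht)) hA.hx2
  -- for `c ∈ C`: `x c x⁻¹ = x⁻¹ c x`
  have hflip : ∀ c ∈ Cs H T, x * c * x⁻¹ = x⁻¹ * c * x := by
    intro c hc
    have h1 := hCc c hc (x * x) hxxH
    calc x * c * x⁻¹ = x⁻¹ * ((x * x) * c) * x⁻¹ * x⁻¹ * x := by group
      _ = x⁻¹ * (c * (x * x)) * x⁻¹ * x⁻¹ * x := by rw [h1]
      _ = x⁻¹ * c * x := by group
  -- the intersection is trivial
  have hinter : Cs H T ⊓ cj x (Cs H T) = ⊥ := by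
    apply hA.hcore
    · intro n hn
      exact hCT n hn.1
    · intro h hh n hn
      have h1 : h * n * h⁻¹ = n := by
        rw [hCc n hn.1 h hh, mul_assoc, mul_inv_cancel, mul_one]
      rw [h1]
      exact hn
    · intro n hn
      refine ⟨?_, conj_mem_cj hn.1⟩
      have h2 : n ∈ cj x (Cs H T) := hn.2
      rw [mem_cj] at h2
      rw [hflip n hn.1]
      exact h2
  refine ⟨hinter, ?_⟩
  -- the conjugate of an element of `C` lies in `Z` and is central in `T`
  obtain ⟨t0, ht0T, ht0Q⟩ := hZF.exists_TQ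
  have hv : ∀ a ∈ Cs H T, x * a * x⁻¹ ∈ Cs H T ∨ x * a * x⁻¹ * w ∈ Cs H T := by
    intro a ha
    have hvT : x * a * x⁻¹ ∈ T := hA.hxT a (hCT a ha)
    have hvsq : (x * a * x⁻¹) * (x * a * x⁻¹) = 1 := by
      have h1 := hZF.sq a (hCZ a ha)
      calc (x * a * x⁻¹) * (x * a * x⁻¹) = x * (a * a) * x⁻¹ := by group
        _ = 1 := by rw [h1]; group
    have hvc : ∀ t ∈ T, (x * a * x⁻¹) * t = t * (x * a * x⁻¹) := by
      intro t ht
      have h1 := hCc a ha (x⁻¹ * t * x) (hA.hTH (hxinvT t ht))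
      calc (x * a * x⁻¹) * t = x * (a * (x⁻¹ * t * x)) * x⁻¹ := by group
        _ = x * ((x⁻¹ * t * x) * a) * x⁻¹ := by rw [h1]
        _ = t * (x * a * x⁻¹) := by group
    have hvZ : x * a * x⁻¹ ∈ Zs H T := hZF.gen _ hvT hvsq hvc
    exact hLoc.fix_T t0 ht0T ht0Q _ hvZ (hvc t0 ht0T).symm
  -- `a ≠ 1` in `C` forces the second alternative
  have hv2 : ∀ a ∈ Cs H T, a ≠ 1 → x * a * x⁻¹ * w ∈ Cs H T := by
    intro a ha hane
    rcases hv a ha with h | h
    · exfalso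
      have hmem : x * a * x⁻¹ ∈ Cs H T ⊓ cj x (Cs H T) := ⟨h, conj_mem_cj ha⟩
      rw [hinter, Subgroup.mem_bot] at hmem
      apply hane
      have : a = x⁻¹ * (x * a * x⁻¹) * x := by group
      rw [this, hmem]
      group
    · exact h
  have huniq : ∀ a ∈ Cs H T, ∀ b ∈ Cs H T, a ≠ 1 → b ≠ 1 → a = b := by
    intro a ha b hb hane hbne
    have h1 := hv2 a ha hane
    have h2 := hv2 b hb hbne
    have h3 : x * (a * b⁻¹) * x⁻¹ ∈ Cs H T := by
      have := (Cs H T).mul_mem h1 ((Cs H T).inv_mem h2)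
      have h4 : x * a * x⁻¹ * w * (x * b * x⁻¹ * w)⁻¹ = x * (a * b⁻¹) * x⁻¹ := by group
      rwa [h4] at this
    have hmem : x * (a * b⁻¹) * x⁻¹ ∈ Cs H T ⊓ cj x (Cs H T) :=
      ⟨h3, conj_mem_cj ((Cs H T).mul_mem ha ((Cs H T).inv_mem hb))⟩
    rw [hinter, Subgroup.mem_bot] at hmem
    have h5 : a * b⁻¹ = x⁻¹ * (x * (a * b⁻¹) * x⁻¹) * x := by group
    rw [hmem] at h5
    have h6 : a * b⁻¹ = 1 := by rw [h5]; group
    exact mul_inv_eq_one.mp h6
  -- count
  have hinj : Function.Injective (fun a : ↥(Cs H T) => decide ((a : G) = 1)) := by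
    intro a b hab
    simp only at hab
    by_cases ha : (a : G) = 1
    · have hb : (b : G) = 1 := by
        by_contra hb
        rw [decide_eq_true ha, decide_eq_false hb] at hab
        exact Bool.noConfusion hab
      exact Subtype.ext (ha.trans hb.symm)
    · have hb : (b : G) ≠ 1 := by
        intro hb
        rw [decide_eq_false ha, decide_eq_true hb] at hab
        exact Bool.noConfusion hab
      exact Subtype.ext (huniq a a.2 b b.2 ha hb)
  have := Nat.card_le_card_of_injective _ hinj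
  simpa using this

end Cfsg.Agent.Lib.Helper74.Sym
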